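import Cfsg.Agent.H939.L64.DefT
import Cfsg.Agent.H597.E8Form

/-!
# S5915, pieces IRR and G2 (helper955): the adjoint module of `E₈` is irreducible over every field

`irr_gen` : a subspace of the `248`-dimensional module over any field `K` which is stable under all `x_r(1)` is `0` or everything.
-/

set_option autoImplicit false
set_option maxRecDepth 100000

namespace Cfsg.Agent.H955.L64

open Matrix hiding J
open Cfsg Cfsg.Lie
open Cfsg.Agent.ChevalleyStructure.Columns Cfsg.Agent.ChevalleyStructure.Additive Cfsg.Agent.ChevalleyStructure.Good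
open Cfsg.Agent.ChevalleyStructure.GoodCheck
open Cfsg.Agent.H597.E8Form

/-- the simple roots -/
def sp : List ℕ := [162, 141, 135, 130, 126, 123, 121, 120]

/-- `(i, s)` with `p_i + s = -a` -/
def tabA : List (ℕ × ℕ) :=
    [(7, 238), (6, 237), (5, 236), (4, 235), (3, 234), (1, 232), (0, 225), (2, 231), (0, 224), (0, 223), (0,
    222), (0, 221), (0, 220), (0, 219), (1, 224), (3, 223), (2, 218), (2, 217), (2, 216), (2, 215), (2, 214),
    (4, 217), (3, 213), (3, 212), (3, 211), (3, 210), (1, 203), (1, 202), (1, 201), (1, 200), (1, 199), (1,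
    198), (1, 197), (1, 196), (1, 195), (1, 194), (5, 202), (4, 199), (4, 198), (4, 197), (3, 193), (3, 192),
    (3, 191), (3, 190), (3, 189), (3, 188), (2, 183), (2, 182), (2, 181), (2, 180), (2, 179), (2, 178), (2,
    177), (2, 176), (2, 175), (2, 174), (0, 161), (0, 160), (0, 159), (0, 158), (0, 157), (0, 156), (0, 155),
    (0, 154), (0, 153), (0, 152), (0, 151), (0, 150), (0, 149), (0, 148), (0, 147), (0, 140), (0, 139), (0,
    138), (0, 137), (0, 136), (0, 135), (99, 0), (6, 160), (5, 158), (5, 157), (4, 155), (4, 154), (4, 153), (3,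
    151), (3, 150), (3, 149), (3, 148), (1, 140), (1, 139), (1, 138), (1, 137), (1, 136), (1, 134), (1, 133),
    (1, 132), (1, 131), (1, 130), (99, 0), (2, 134), (2, 133), (2, 132), (2, 131), (2, 130), (99, 0), (3, 129),
    (3, 128), (3, 127), (3, 126), (99, 0), (4, 125), (4, 124), (4, 123), (99, 0), (5, 122), (5, 121), (99, 0),
    (6, 120), (99, 0), (99, 0), (6, 117), (5, 115), (5, 114), (4, 112), (4, 111), (4, 110), (3, 108), (3, 107),
    (3, 106), (3, 105), (1, 97), (1, 96), (1, 95), (1, 94), (1, 93), (0, 76), (0, 75), (0, 74), (0, 73), (0,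
    72), (0, 71), (3, 97), (2, 92), (2, 91), (2, 90), (2, 89), (2, 88), (0, 70), (0, 69), (0, 68), (0, 67), (0,
    66), (0, 65), (0, 64), (0, 63), (0, 62), (0, 61), (0, 60), (0, 59), (0, 58), (0, 57), (0, 56), (2, 76), (3,
    75), (1, 70), (1, 69), (1, 68), (1, 67), (1, 66), (4, 69), (3, 65), (3, 64), (3, 63), (3, 62), (2, 55), (2,
    54), (2, 53), (2, 52), (2, 51), (2, 50), (2, 49), (2, 48), (2, 47), (2, 46), (5, 54), (4, 51), (4, 50), (4,
    49), (3, 45), (3, 44), (3, 43), (3, 42), (3, 41), (3, 40), (1, 35), (1, 34), (1, 33), (1, 32), (1, 31), (1,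
    30), (1, 29), (1, 28), (1, 27), (1, 26), (6, 34), (5, 32), (5, 31), (4, 29), (4, 28), (4, 27), (3, 25), (3,
    24), (3, 23), (3, 22), (2, 20), (2, 19), (2, 18), (2, 17), (2, 16), (0, 13), (0, 12), (0, 11), (0, 10), (0,
    9), (0, 8), (0, 6), (7, 12), (6, 11), (5, 10), (4, 9), (3, 8), (1, 6), (1, 5), (2, 5), (3, 4), (4, 3), (5,
    2), (6, 1), (7, 0)]

/-- `(r, s')` with `r + s' = s`, `s < s'` -/
def tabB : List (ℕ × ℕ) :=
    [(119, 1), (118, 2), (116, 3), (113, 4), (109, 5), (104, 6), (98, 8), (104, 8), (109, 9), (113, 10), (116,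
    11), (118, 12), (119, 13), (77, 20), (98, 15), (109, 16), (113, 17), (116, 18), (118, 19), (119, 20), (104,
    25), (113, 22), (116, 23), (118, 24), (119, 25), (109, 29), (116, 27), (118, 28), (119, 29), (113, 32),
    (118, 31), (119, 32), (116, 34), (119, 34), (118, 35), (98, 45), (116, 37), (118, 38), (119, 39), (113, 42),
    (118, 41), (119, 42), (116, 44), (119, 44), (118, 45), (109, 51), (118, 47), (119, 48), (116, 50), (119,
    50), (118, 51), (113, 54), (119, 53), (118, 54), (116, 55), (104, 65), (118, 57), (119, 58), (116, 60),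
    (119, 60), (118, 61), (113, 64), (119, 63), (118, 64), (116, 65), (109, 69), (119, 67), (118, 68), (116,
    69), (113, 70), (98, 75), (119, 72), (118, 73), (116, 74), (113, 75), (109, 76), (104, 77), (76, 135), (118,
    79), (119, 80), (116, 82), (119, 82), (118, 83), (113, 86), (119, 85), (118, 86), (116, 87), (109, 91),
    (119, 89), (118, 90), (116, 91), (113, 92), (104, 97), (119, 94), (118, 95), (116, 96), (113, 97), (109,
    98), (97, 130), (119, 100), (118, 101), (116, 102), (113, 103), (109, 104), (103, 130), (119, 106), (118,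
    107), (116, 108), (113, 109), (108, 126), (119, 111), (118, 112), (116, 113), (112, 123), (119, 115), (118,
    116), (115, 121), (119, 118), (117, 120), (117, 121), (118, 122), (119, 122), (116, 125), (118, 124), (119,
    125), (113, 129), (116, 127), (118, 128), (119, 129), (109, 134), (113, 131), (116, 132), (118, 133), (119,
    134), (104, 140), (109, 136), (113, 137), (116, 138), (118, 139), (119, 140), (98, 151), (109, 142), (113,
    143), (116, 144), (118, 145), (119, 146), (104, 151), (113, 148), (116, 149), (118, 150), (119, 151), (109,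
    155), (116, 153), (118, 154), (119, 155), (113, 158), (118, 157), (119, 158), (116, 160), (119, 160), (118,
    161), (77, 183), (104, 163), (109, 164), (113, 165), (116, 166), (118, 167), (119, 168), (98, 173), (113,
    170), (116, 171), (118, 172), (119, 173), (109, 177), (116, 175), (118, 176), (119, 177), (113, 180), (118,
    179), (119, 180), (116, 182), (119, 182), (118, 183), (104, 193), (116, 185), (118, 186), (119, 187), (113,
    190), (118, 189), (119, 190), (116, 192), (119, 192), (118, 193), (109, 199), (118, 195), (119, 196), (116,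
    198), (119, 198), (118, 199), (113, 202), (119, 201), (118, 202), (116, 203), (98, 213), (118, 205), (119,
    206), (116, 208), (119, 208), (118, 209), (113, 212), (119, 211), (118, 212), (116, 213), (109, 217), (119,
    215), (118, 216), (116, 217), (113, 218), (104, 223), (119, 220), (118, 221), (116, 222), (113, 223), (109,
    224), (98, 225), (77, 233), (119, 227), (118, 228), (116, 229), (113, 230), (109, 231), (104, 232), (98,
    234), (104, 234), (109, 235), (113, 236), (116, 237), (118, 238), (119, 239)]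

/-- the chain entry is `[(u, ±1)]` -/
def one (r s u : ℕ) : Bool :=
  (!Nat.beq s r && !Nat.beq s (239 - r)) && (match chevE8.chainEntry r s with
    | [(v, m)] => Nat.beq v u && (decide (m = 1) || decide (m = -1))
    | _ => false)

theorem one_spec {r s u : ℕ} (h : one r s u = true) : s ≠ r ∧ s ≠ 239 - r ∧ ∃ m : ℤ, (m = 1 ∨ m = -1) ∧
    chevE8.chainEntry r s = [(u, m)] := by
  unfold one at h
  simp only [Bool.and_eq_true, Bool.not_eq_true'] at h
  obtain ⟨⟨h1, h2⟩, h3⟩ := h
  refine ⟨fun h => ?_, fun h => ?_, ?_⟩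
  · rw [h, Nat.beq_refl] at h1
    exact absurd h1 (by simp)
  · rw [h, Nat.beq_refl] at h2
    exact absurd h2 (by simp)
  · split at h3
    · rename_i v m h4
      simp only [Bool.and_eq_true, Bool.or_eq_true, decide_eq_true_eq] at h3
      exact ⟨m, h3.2, by rw [h4, Nat.eq_of_beq_eq_true h3.1]⟩
    · exact absurd h3 (by simp)

theorem tabA_ok : ∀ a < 239, (a = 77 ∨ a = 98 ∨ a = 104 ∨ a = 109 ∨ a = 113 ∨ a = 116 ∨ a = 118 ∨ a = 119) ∨
    ((tabA.getD a (0, 0)).1 < 8 ∧ (tabA.getD a (0, 0)).2 < 240 ∧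
      one (sp.getD (tabA.getD a (0, 0)).1 0) (tabA.getD a (0, 0)).2 (239 - a) = true) := by decide +kernel

theorem tabB_ok : ∀ s < 239, s < (tabB.getD s (0, 0)).2 ∧ (tabB.getD s (0, 0)).1 < 240 ∧ (tabB.getD s (0, 0)).2 < 240 ∧
      one (tabB.getD s (0, 0)).1 (tabB.getD s (0, 0)).2 s = true := by decide +kernel

theorem up_ok : ∀ i < 8, ((row chevE8 (sp.getD i 0)).all fun e => e.2.toList.all fun q => Nat.blt e.1 q.1) = true := by
  decide +kernel

theorem sp_lt : ∀ i < 8, 120 ≤ sp.getD i 0 ∧ sp.getD i 0 < 240 := by decide +kernel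

theorem sp_cor : ∀ i < 8, ∀ j < 8, cor chevE8 (sp.getD i 0) j = if j = i then 1 else 0 := by decide +kernel

/-- a neighbour in the diagram -/
def nb : List ℕ := [2, 3, 0, 1, 3, 4, 5, 6]

theorem nb_ok : ∀ i < 8, nb.getD i 0 < 8 ∧ car chevE8 (nb.getD i 0) (sp.getD i 0) = -1 := by decide +kernel

/-! ### heights -/

section Gen

variable {K : Type*} [Field K]

/-- twice the index, the Cartan part in the middle -/
def ht : chevE8.Idx → ℕ
  | Sum.inl _ => 239
  | Sum.inr s => 2 * s.val

theorem ht_lt (j : chevE8.Idx) : ht j < 480 := by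
  rcases j with i | s
  · show 239 < 480
    omega
  · show 2 * s.val < 480
    have := lt240 s
    omega

theorem entry_up {i : ℕ} (hi : i < 8) (s : ℕ) : ∀ q ∈ chevE8.chainEntry (sp.getD i 0) s, s < q.1 := by
  intro q hq
  rw [chainEntry_eq_look] at hq
  rcases look_mem (row chevE8 (sp.getD i 0)) s with h3 | ⟨e, he, h4, h5⟩
  · rw [h3] at hq
    exact absurd hq (by simp)
  · rw [h5] at hq
    have h1 := List.all_eq_true.1 (List.all_eq_true.1 (up_ok i hi) e he) q hq
    rw [← h4]
    rwa [Nat.blt_eq] at h1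

theorem neg_eq' (r : Fin chevE8.nroots) : chevE8.negIdx.getD r.val 0 = 239 - r.val := neg_eq r.val (lt240 r)

/-- the entries of `x_r(1)` for a simple root `r` -/
theorem entry_low {i : ℕ} (hi : i < 8) (r : Fin chevE8.nroots) (hr : r.val = sp.getD i 0) (a b : chevE8.Idx)
    (h : ht a ≤ ht b) : chevE8.xMat K r 1 a b = if a = b then 1 else 0 := by
  have h120 : 120 ≤ r.val := by
    rw [hr]
    exact (sp_lt i hi).1
  have hr' := lt240 r
  rcases a with a | u <;> rcases b with b | s
  · rw [xMat_inl_inl]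
    simp
  · have h1 : 239 ≤ 2 * s.val := h
    have h2 : s.val ≠ chevE8.negIdx.getD r.val 0 := by
      rw [neg_eq']
      omega
    have h3 : (if (Sum.inl a : chevE8.Idx) = Sum.inr s then (1 : K) else 0) = 0 := if_neg (by simp)
    rw [xMat_inl_inr, if_neg h2, h3]
    split_ifs <;> rfl
  · have h1 : 2 * u.val ≤ 239 := h
    have h2 : u ≠ r := by
      rintro rfl
      omega
    have h3 : (if (Sum.inr u : chevE8.Idx) = Sum.inl b then (1 : K) else 0) = 0 := if_neg (by simp)
    rw [xMat_inr_inl, if_neg h2, h3]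
  · have h1 : 2 * u.val ≤ 2 * s.val := h
    have h3 : (if (Sum.inr u : chevE8.Idx) = Sum.inr s then (1 : K) else 0) = if u = s then 1 else 0 := by
      by_cases h : u = s
      · rw [if_pos h, if_pos (by rw [h])]
      · rw [if_neg h, if_neg (fun h' => h (Sum.inr.inj h'))]
    rw [h3]
    by_cases hsr : s = r
    · rw [hsr, xMat_self, dl_inr]
      by_cases hu : u = r
      · rw [hu, if_pos rfl, if_pos rfl]
      · rw [if_neg hu, if_neg (fun h => hu (Fin.ext h))]
    · by_cases hs : s.val = chevE8.negIdx.getD r.val 0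
      · rw [xMat_neg chevE8 r 1 _ s hs hsr, dl_inr, dl_inr]
        rw [neg_eq'] at hs
        have h4 : ¬ u.val = r.val := by omega
        rw [if_neg h4]
        by_cases hu : u = s
        · rw [hu]
          simp
        · have h5 : ¬ u.val = s.val := fun h => hu (Fin.ext h)
          simp [hu, h5]
      · rw [xMat_ne chevE8 r 1 _ s hs hsr (good r.val hr').sorted, dl_inr]
        have h5 : chSum (dl K chevE8 (Sum.inr u)) 1 1 (chevE8.chainEntry r.val s.val) = 0 := by
          rcases entry r.val hr' s.val with h6 | ⟨v, m, h6, -, -⟩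
          · rw [h6, chSum_nil]
          · have h7 := entry_up hi s.val (v, m) (by rw [← hr, h6]; simp)
            rw [h6, chSum_cons, chSum_nil, dl_inr]
            have h8 : ¬ u.val = v := by
              have : s.val < v := h7
              omega
            simp [h8]
        rw [h5, add_zero]
        by_cases hu : u = s
        · rw [hu, if_pos rfl, if_pos rfl]
        · rw [if_neg hu, if_neg (fun h => hu (Fin.ext h))]

/-- the simple root with index `i` -/
def sr' (i : ℕ) (hi : i < 8) : Fin chevE8.nroots := ⟨sp.getD i 0, (sp_lt i hi).2⟩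

theorem exists_fix (W : Submodule K (chevE8.Idx → K)) (hW : ∀ r : Fin chevE8.nroots, ∀ w ∈ W, chevE8.xMat K r 1 *ᵥ w ∈ W)
    (h0 : W ≠ ⊥) : ∃ v ∈ W, v ≠ 0 ∧ ∀ i, ∀ hi : i < 8, chevE8.xMat K (sr' i hi) 1 *ᵥ v = v := by
  obtain ⟨v0, hv0, hne0⟩ := (Submodule.ne_bot_iff W).1 h0
  obtain ⟨n, hn, hn'⟩ : ∃ n, (∃ v ∈ W, v ≠ 0 ∧ ∀ j, ht j < n → v j = 0) ∧
      ¬ (∃ v ∈ W, v ≠ 0 ∧ ∀ j, ht j < n + 1 → v j = 0) := by
    by_contra h
    push Not at h
    have hall : ∀ n, ∃ v ∈ W, v ≠ 0 ∧ ∀ j, ht j < n → v j = 0 := by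
      intro n
      induction n with
      | zero => exact ⟨v0, hv0, hne0, fun j hj => absurd hj (by omega)⟩
      | succ n ih => exact h n ih
    obtain ⟨v, -, hv, h1⟩ := hall 480
    exact hv (funext fun j => h1 j (ht_lt j))
  obtain ⟨v, hv, hne, hz⟩ := hn
  refine ⟨v, hv, hne, fun i hi => ?_⟩
  by_contra hcon
  refine hn' ⟨chevE8.xMat K (sr' i hi) 1 *ᵥ v - v, W.sub_mem (hW _ v hv) hv, sub_ne_zero.2 hcon, fun a ha => ?_⟩
  rw [Pi.sub_apply, sub_eq_zero]
  show ∑ b, chevE8.xMat K (sr' i hi) 1 a b * v b = v a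
  have h1 : ∀ b, chevE8.xMat K (sr' i hi) 1 a b * v b = if a = b then v b else 0 := by
    intro b
    by_cases hb : ht b < n
    · rw [hz b hb, mul_zero]
      split_ifs <;> rfl
    · rw [entry_low hi (sr' i hi) rfl a b (by omega)]
      split_ifs <;> simp
  rw [Finset.sum_congr rfl fun b _ => h1 b, Finset.sum_ite_eq, if_pos (Finset.mem_univ _)]

/-! ### columns -/

/-- the basis vectors -/
def ev (K : Type*) [Field K] (s : Fin chevE8.nroots) : chevE8.Idx → K := Pi.single (Sum.inr s) 1

def hv (K : Type*) [Field K] (i : Fin chevE8.rank) : chevE8.Idx → K := Pi.single (Sum.inl i) 1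

theorem ev_apply (s : Fin chevE8.nroots) (v : chevE8.Idx) : ev K s v = dl K chevE8 v s.val := by
  unfold ev
  rcases v with i | u
  · rw [dl_inl, Pi.single_eq_of_ne (by simp)]
  · rw [dl_inr]
    by_cases h : u = s
    · rw [h, Pi.single_eq_same, if_pos rfl]
    · rw [Pi.single_eq_of_ne (fun h' => h (Sum.inr.inj h')), if_neg (fun h' => h (Fin.ext h'))]

theorem col_one {r s u : Fin chevE8.nroots} (h : one r.val s.val u.val = true) : ∃ c : K, c ≠ 0 ∧
    chevE8.xMat K r 1 *ᵥ ev K s = ev K s + c • ev K u := by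
  obtain ⟨h1, h2, m, hm, h3⟩ := one_spec h
  refine ⟨(m : K), ?_, ?_⟩
  · rcases hm with rfl | rfl <;> simp
  · funext v
    unfold ev
    rw [Matrix.mulVec_single_one]
    show chevE8.xMat K r 1 v (Sum.inr s) = _
    rw [xMat_ne chevE8 r 1 v s (by rw [neg_eq']; exact h2) (fun h => h1 (by rw [h])) (good r.val (lt240 r)).sorted, h3,
      chSum_cons, chSum_nil]
    have e1 := ev_apply (K := K) s v
    have e2 := ev_apply (K := K) u v
    unfold ev at e1 e2
    rw [Pi.add_apply, Pi.smul_apply, e1, e2, smul_eq_mul]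
    ring

theorem col_cartan (r : Fin chevE8.nroots) (i : Fin chevE8.rank) :
    chevE8.xMat K r 1 *ᵥ hv K i = hv K i - (car chevE8 i.val r.val : K) • ev K r := by
  funext v
  unfold hv ev
  rw [Matrix.mulVec_single_one]
  show chevE8.xMat K r 1 v (Sum.inl i) = _
  have e2 := ev_apply (K := K) r v
  unfold ev at e2
  rw [xMat_inl, Pi.sub_apply, Pi.smul_apply, e2, Pi.single_apply, smul_eq_mul, mul_one]

theorem col_neg {i : ℕ} (hi : i < 8) : chevE8.xMat K (sr' i hi) 1 *ᵥ ev K (rv (sr' i hi)) =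
    ev K (rv (sr' i hi)) + hv K ⟨i, hi⟩ - ev K (sr' i hi) := by
  have hne : rv (sr' i hi) ≠ sr' i hi := by
    intro h
    have h1 := congrArg Fin.val h
    rw [rv_val] at h1
    have := (sp_lt i hi).1
    have h2 : (sr' i hi).val = sp.getD i 0 := rfl
    omega
  funext v
  unfold hv ev
  rw [Matrix.mulVec_single_one]
  show chevE8.xMat K (sr' i hi) 1 v (Sum.inr (rv (sr' i hi))) = _
  rw [xMat_neg chevE8 _ 1 v _ (by rw [rv_val, neg_eq']) hne]
  have e1 := ev_apply (K := K) (rv (sr' i hi)) v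
  have e2 := ev_apply (K := K) (sr' i hi) v
  unfold ev at e1 e2
  rw [Pi.sub_apply, Pi.add_apply, e1, e2, Pi.single_apply]
  have h3 : ∀ j : Fin chevE8.rank, (cor chevE8 (sr' i hi).val j.val : K) * 1 * (if v = Sum.inl j then 1 else 0) =
      if j = ⟨i, hi⟩ then (if v = Sum.inl j then 1 else 0) else 0 := by
    intro j
    have h4 : cor chevE8 (sr' i hi).val j.val = if j.val = i then 1 else 0 := sp_cor i hi j.val (lt8 j)
    rw [h4]
    by_cases h : j.val = i
    · rw [if_pos h, if_pos (Fin.ext h)]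
      simp
    · rw [if_neg h, if_neg (fun h' => h (congrArg Fin.val h'))]
      simp
  rw [Finset.sum_congr rfl fun j _ => h3 j, Finset.sum_ite_eq' Finset.univ (⟨i, hi⟩ : Fin chevE8.rank),
    if_pos (Finset.mem_univ _)]
  ring

/-! ### the theorem -/

/-- every vector fixed by the simple root elements is a multiple of the highest root vector -/
theorem fix_spec {v : chevE8.Idx → K} (h : ∀ i, ∀ hi : i < 8, chevE8.xMat K (sr' i hi) 1 *ᵥ v = v) :
    ∃ c : K, v = c • ev K (⟨239, by decide⟩ : Fin chevE8.nroots) := by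
  have key : ∀ i, ∀ hi : i < 8, ∀ w : chevE8.Idx → K, (v ᵥ* J K) ⬝ᵥ (chevE8.xMat K (sr' i hi) 1 *ᵥ w) = (v ᵥ* J K) ⬝ᵥ w := by
    intro i hi w
    have h1 := inv_gen (K := K) (sr' i hi) 1
    calc (v ᵥ* J K) ⬝ᵥ (chevE8.xMat K (sr' i hi) 1 *ᵥ w)
        = ((chevE8.xMat K (sr' i hi) 1 *ᵥ v) ᵥ* J K) ⬝ᵥ (chevE8.xMat K (sr' i hi) 1 *ᵥ w) := by rw [h i hi]
      _ = (v ᵥ* ((chevE8.xMat K (sr' i hi) 1).transpose * J K * chevE8.xMat K (sr' i hi) 1)) ⬝ᵥ w := by
          rw [← Matrix.vecMul_transpose, Matrix.vecMul_vecMul, Matrix.dotProduct_mulVec, Matrix.vecMul_vecMul]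
      _ = (v ᵥ* J K) ⬝ᵥ w := by rw [h1]
  have hev : ∀ s : Fin chevE8.nroots, (v ᵥ* J K) ⬝ᵥ ev K s = (v ᵥ* J K) (Sum.inr s) := by
    intro s
    unfold ev
    rw [dotProduct_single, mul_one]
  have hhv : ∀ s : Fin chevE8.rank, (v ᵥ* J K) ⬝ᵥ hv K s = (v ᵥ* J K) (Sum.inl s) := by
    intro s
    unfold hv
    rw [dotProduct_single, mul_one]
  -- the simple roots
  have hsimple : ∀ i, ∀ hi : i < 8, (v ᵥ* J K) (Sum.inr (sr' i hi)) = 0 := by
    intro i hi
    obtain ⟨h1, h2⟩ := nb_ok i hi
    have h3 := key i hi (hv K ⟨nb.getD i 0, h1⟩)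
    have h4 : car chevE8 (⟨nb.getD i 0, h1⟩ : Fin chevE8.rank).val (sr' i hi).val = -1 := h2
    rw [col_cartan, h4, dotProduct_sub, dotProduct_smul, hev] at h3
    have h5 : -(((-1 : ℤ) : K) • (v ᵥ* J K) (Sum.inr (sr' i hi))) = 0 := by linear_combination h3
    simpa using h5
  -- the root coordinates
  have hroot : ∀ u : Fin chevE8.nroots, u.val ≠ 0 → (v ᵥ* J K) (Sum.inr u) = 0 := by
    intro u hu
    have hu' := lt240 u
    rcases tabA_ok (239 - u.val) (by omega) with h1 | ⟨h1, h2, h3⟩
    · obtain ⟨i, hi, h4⟩ : ∃ i, i < 8 ∧ u.val = sp.getD i 0 := by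
        rcases h1 with h1 | h1 | h1 | h1 | h1 | h1 | h1 | h1
        · exact ⟨0, by omega, by show u.val = 162; omega⟩
        · exact ⟨1, by omega, by show u.val = 141; omega⟩
        · exact ⟨2, by omega, by show u.val = 135; omega⟩
        · exact ⟨3, by omega, by show u.val = 130; omega⟩
        · exact ⟨4, by omega, by show u.val = 126; omega⟩
        · exact ⟨5, by omega, by show u.val = 123; omega⟩
        · exact ⟨6, by omega, by show u.val = 121; omega⟩
        · exact ⟨7, by omega, by show u.val = 120; omega⟩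
      have h5 : u = sr' i hi := Fin.ext h4
      rw [h5]
      exact hsimple i hi
    · have h4 : 239 - (239 - u.val) = u.val := by omega
      rw [h4] at h3
      obtain ⟨c, hc, h5⟩ := col_one (K := K) (r := sr' _ h1) (s := ⟨_, h2⟩) (u := u) h3
      have h6 := key _ h1 (ev K ⟨_, h2⟩)
      rw [h5, dotProduct_add, dotProduct_smul, hev] at h6
      have h7 : c * (v ᵥ* J K) (Sum.inr u) = 0 := by
        rw [← smul_eq_mul]
        rw [hev] at h6
        linear_combination h6
      exact (mul_eq_zero.1 h7).resolve_left hc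
  have hcart : ∀ i : Fin chevE8.rank, (v ᵥ* J K) (Sum.inl i) = 0 := by
    intro i
    have hi := lt8 i
    have h3 := key i.val hi (ev K (rv (sr' i.val hi)))
    rw [col_neg hi, dotProduct_sub, dotProduct_add, hhv, hev, hev, hsimple i.val hi] at h3
    have h4 : (⟨i.val, hi⟩ : Fin chevE8.rank) = i := rfl
    rw [h4] at h3
    linear_combination h3
  -- conclusion
  have h0 : (0 : ℕ) < chevE8.nroots := by decide
  refine ⟨(v ᵥ* J K) (Sum.inr ⟨0, h0⟩), ?_⟩
  have h1 : (v - (v ᵥ* J K) (Sum.inr ⟨0, h0⟩) • ev K (⟨239, by decide⟩ : Fin chevE8.nroots)) ᵥ* J K = 0 := by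
    rw [Matrix.sub_vecMul, Matrix.smul_vecMul]
    have h2 : ev K (⟨239, by decide⟩ : Fin chevE8.nroots) ᵥ* J K = ev K ⟨0, h0⟩ := by
      unfold ev
      rw [Matrix.single_one_vecMul]
      funext w
      show J K (Sum.inr _) w = _
      rcases w with i | u
      · rw [J_rl, Pi.single_eq_of_ne (by simp)]
      · rw [J_rr, Pi.single_apply]
        have h3 : rv (⟨239, by decide⟩ : Fin chevE8.nroots) = ⟨0, h0⟩ := Fin.ext (by rw [rv_val]; rfl)
        rw [h3]
        by_cases h4 : u = ⟨0, h0⟩
        · rw [h4, if_pos rfl, if_pos rfl]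
        · rw [if_neg h4, if_neg (fun h => h4 (Sum.inr.inj h))]
    rw [h2]
    funext w
    rw [Pi.sub_apply, Pi.smul_apply, Pi.zero_apply, smul_eq_mul]
    rcases w with i | u
    · rw [hcart i, ev_apply, dl_inl, mul_zero, sub_zero]
    · by_cases hu : u.val = 0
      · have h4 : u = ⟨0, h0⟩ := Fin.ext hu
        rw [h4, ev_apply, dl_inr, if_pos rfl, mul_one, sub_self]
      · rw [hroot u hu, ev_apply, dl_inr, if_neg hu, mul_zero, sub_zero]
  have h2 : ((v - (v ᵥ* J K) (Sum.inr ⟨0, h0⟩) • ev K (⟨239, by decide⟩ : Fin chevE8.nroots)) ᵥ* J K) ᵥ* (J K)⁻¹ =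
      v - (v ᵥ* J K) (Sum.inr ⟨0, h0⟩) • ev K (⟨239, by decide⟩ : Fin chevE8.nroots) := by
    rw [Matrix.vecMul_vecMul, Matrix.mul_nonsing_inv _ isUnit_det, Matrix.vecMul_one]
  rw [h1, Matrix.zero_vecMul] at h2
  exact (sub_eq_zero.1 h2.symm)

/-- **The adjoint module of `E₈` is irreducible** (every field, only the elements `x_r(1)`) -/
theorem irr_gen (W : Submodule K (chevE8.Idx → K))
    (hW : ∀ r : Fin chevE8.nroots, ∀ w ∈ W, chevE8.xMat K r 1 *ᵥ w ∈ W) : W = ⊥ ∨ W = ⊤ := by
  by_cases h0 : W = ⊥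
  · exact Or.inl h0
  right
  obtain ⟨v, hvW, hne, hfix⟩ := exists_fix W hW h0
  obtain ⟨c, hc⟩ := fix_spec hfix
  have hc0 : c ≠ 0 := by
    rintro rfl
    rw [zero_smul] at hc
    exact hne hc
  have htop : ev K (⟨239, by decide⟩ : Fin chevE8.nroots) ∈ W := by
    have h1 : c⁻¹ • v ∈ W := W.smul_mem _ hvW
    rwa [hc, smul_smul, inv_mul_cancel₀ hc0, one_smul] at h1
  -- the root vectors
  have hroot : ∀ n, ∀ s : Fin chevE8.nroots, 239 ≤ s.val + n → ev K s ∈ W := by
    intro n
    induction n with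
    | zero =>
      intro s hs
      have := lt240 s
      have h1 : s = ⟨239, by decide⟩ := Fin.ext (by show s.val = 239; omega)
      rw [h1]
      exact htop
    | succ n ih =>
      intro s hs
      have hs' := lt240 s
      by_cases h1 : s.val = 239
      · have h1 : s = ⟨239, by decide⟩ := Fin.ext h1
        rw [h1]
        exact htop
      · obtain ⟨h2, h3, h4, h5⟩ := tabB_ok s.val (by omega)
        obtain ⟨d, hd, h6⟩ := col_one (K := K) (r := ⟨_, h3⟩) (s := ⟨_, h4⟩) (u := s) h5
        have h7 := ih ⟨_, h4⟩ (by show 239 ≤ (tabB.getD s.val (0, 0)).2 + n; omega)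
        have h8 := W.sub_mem (hW ⟨_, h3⟩ _ h7) h7
        rw [h6, add_sub_cancel_left] at h8
        have h9 := W.smul_mem d⁻¹ h8
        rwa [smul_smul, inv_mul_cancel₀ hd, one_smul] at h9
  have hroot' : ∀ s, ev K s ∈ W := fun s => hroot 239 s (by omega)
  have hcart : ∀ i, hv K i ∈ W := by
    intro i
    have hi := lt8 i
    have h1 := hW (sr' i.val hi) _ (hroot' (rv (sr' i.val hi)))
    rw [col_neg hi] at h1
    have h2 := W.sub_mem (W.add_mem h1 (hroot' (sr' i.val hi))) (hroot' (rv (sr' i.val hi)))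
    have h3 : ev K (rv (sr' i.val hi)) + hv K ⟨i.val, hi⟩ - ev K (sr' i.val hi) + ev K (sr' i.val hi) -
        ev K (rv (sr' i.val hi)) = hv K i := by abel
    rwa [h3] at h2
  rw [Submodule.eq_top_iff']
  intro x
  rw [pi_eq_sum_univ' x]
  refine W.sum_mem fun j _ => W.smul_mem _ ?_
  rcases j with i | s
  · have h1 := hcart i
    unfold hv at h1
    simpa using h1
  · have h1 := hroot' s
    unfold ev at h1
    simpa using h1

end Gen

/-! ### IRR and G2 -/

open Cfsg.Agent.ChevalleyStructure.Elts Cfsg.Agent.GpExc.Field Cfsg.Agent.H939.L64 Cfsg.Agent.H942.E8Tab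

/-- the elements `x_r(1)` of `E₈(2)` -/
def xe (r : Fin chevE8.nroots) : E2 := ⟨xG e8T.inList r.val 1, xG_mem_group e8T.inList r.val 1⟩

theorem rE_xe (r : Fin chevE8.nroots) (v : LK) : rE (xe r) v = chevE8.xMat KK r 1 *ᵥ v := by
  have h1 : (((H939.L64.em (xe r) : ↥(chevE8.group KK)) : GL chevE8.Idx KK) : Matrix chevE8.Idx chevE8.Idx KK) =
      chevE8.xMat KK r 1 := by
    unfold H939.L64.em xe
    rw [coe_emb, glMap_xG, coe_xG, x_eq_xMat r.val r.isLt, map_one]
  show (((H939.L64.em (xe r) : ↥(chevE8.group KK)) : GL chevE8.Idx KK) : Matrix chevE8.Idx chevE8.Idx KK) *ᵥ v = _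
  rw [h1]

/-- **IRR**: the module is irreducible -/
theorem IRR (W : Submodule KK LK) (hW : ∀ g : E2, ∀ x ∈ W, rE g x ∈ W) : W = ⊥ ∨ W = ⊤ := by
  refine irr_gen W fun r w hw => ?_
  rw [← rE_xe]
  exact hW _ w hw

/-- the representation is faithful -/
theorem rE_faithful {g : E2} (h : ∀ v : LK, rE g v = v) : g = 1 := by
  have h1 : H939.L64.em g = 1 := by
    apply Subtype.ext
    apply Units.ext
    show (((H939.L64.em g : ↥(chevE8.group KK)) : GL chevE8.Idx KK) : Matrix chevE8.Idx chevE8.Idx KK) = 1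
    ext i j
    have h2 := congrFun (h (Pi.single j 1)) i
    rw [rE_apply, aK, Matrix.mulVec_single_one] at h2
    rw [Matrix.one_apply]
    refine Eq.trans h2 ?_
    rw [Pi.single_apply]
  exact emb_injective e8T.inList (algebraMap (ZMod 2) KK) (h1.trans (map_one _).symm)

/-- G2 in general -/
theorem g2_gen {k G V : Type*} [Field k] [Group G] [AddCommGroup V] [Module k V] (ρ : Representation k G V)
    (irr : ∀ W : Submodule k V, (∀ g, ∀ x ∈ W, ρ g x ∈ W) → W = ⊥ ∨ W = ⊤) (faith : ∀ g, (∀ v, ρ g v = v) → g = 1)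
    {H K : Subgroup G} (hH : IsCoatom H) (hn : H ≤ Subgroup.normalizer (K : Set G)) (hK : K ≠ ⊥)
    (hv : ∃ v : V, v ≠ 0 ∧ ∀ g ∈ K, ρ g v = v) : K ≤ H := by
  by_cases hN : Subgroup.normalizer (K : Set G) = ⊤
  · exfalso
    let W : Submodule k V :=
      { carrier := {v | ∀ g ∈ K, ρ g v = v}
        add_mem' := fun {a b} ha hb g hg => by rw [map_add, ha g hg, hb g hg]
        zero_mem' := fun g _ => map_zero _
        smul_mem' := fun c v hv g hg => by rw [map_smul, hv g hg] }
    have hW : ∀ g : G, ∀ x ∈ W, ρ g x ∈ W := by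
      intro h x hx g hg
      have h1 : h⁻¹ * g * h ∈ K := by
        have h2 : h⁻¹ ∈ Subgroup.normalizer (K : Set G) := by
          rw [hN]
          exact Subgroup.mem_top _
        have h3 := (Subgroup.mem_normalizer_iff.1 h2 g).1 hg
        simpa using h3
      calc ρ g (ρ h x) = ρ h (ρ (h⁻¹ * g * h) x) := by
            rw [← Module.End.mul_apply, ← Module.End.mul_apply, ← map_mul, ← map_mul]
            congr 2
            group
        _ = ρ h x := by rw [hx _ h1]
    obtain ⟨v, hv0, hv⟩ := hv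
    rcases irr W hW with h | h
    · have h1 : v ∈ W := hv
      rw [h, Submodule.mem_bot] at h1
      exact hv0 h1
    · apply hK
      rw [Subgroup.eq_bot_iff_forall]
      intro g hg
      refine faith g fun v => ?_
      have h1 : v ∈ W := by
        rw [h]
        exact Submodule.mem_top
      exact h1 g hg
  · have h1 := (hH.le_iff_eq hN).1 hn
    rw [← h1]
    exact Subgroup.le_normalizer

/-- G2: a subgroup with a non-zero fixed vector normalised by a maximal subgroup -/
theorem G2 {H K : Subgroup E2} (hH : IsCoatom H) (hn : H ≤ Subgroup.normalizer (K : Set E2)) (hK : K ≠ ⊥)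
    (hv : ∃ v : LK, v ≠ 0 ∧ ∀ g ∈ K, rE g v = v) : K ≤ H :=
  g2_gen rE IRR (fun _ => rE_faithful) hH hn hK hv

end Cfsg.Agent.H955.L64
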